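import Groth.Agent.HodgeIdx81.Growth
import Groth.Agent.S1684
import Groth.Agent.RegLoc.UFD
import Groth.Agent.FibBound.Basic
import Groth.Agent.IdealSh.IdealMod
import Groth.Agent.CartFilt.Basic
import Groth.Agent.NegVan.MulTheta
import Groth.Agent.NegVan.Twist
import Groth.Agent.ModPairLib.Divide
import Groth.Agent.CurveCoh.Euler
import Groth.Agent.RedSub.Basic

/-!
# Unions of curves on a regular surface

Short copies of lemmas of `VertInter.Comp` and `HodgeIdx81.{Sub,CurveClass,Fundamental}`, without their heavy imports.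
-/

set_option autoImplicit false
set_option linter.style.haveILetI false

universe u

open CategoryTheory CategoryTheory.Limits AlgebraicGeometry

noncomputable section

namespace Groth.Agent.SurfUnion21

open Groth.Agent.HodgeIdx81 Groth.Agent.ProjTwist

attribute [local irreducible] Curv2.euler

section M
open Groth.Agent.CartFilt Groth.Agent.Props.GenTensor Groth.Agent.Props.GenLocus Groth.Agent.QCoh
open Groth.Agent.PullStalk.Sky Groth.Agent.PullStalk.Exact Groth.Agent.NegVan TopologicalSpace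



variable {X : Scheme.{u}} [IsLocallyNoetherian X]

/-- The image of `I ⊗ J ⟶ O` has the stalks of `I * J`. -/
theorem rangeEq_mul {I J : X.IdealSheafData} (hI : BlowUp.IsEffCartierIdeal I)
    (hJ : BlowUp.IsEffCartierIdeal J) : ∀ x, ∃ g,
      RangeEq (CartFilt.α J (ClSub.idealMod I) ≫ ClSub.idealModι I) x g ∧
      RangeEq (ClSub.idealModι (I * J)) x g := by
  intro x
  obtain ⟨U, hx, -, f, g, hf, hg, e, e'⟩ := IdealSh.EffCartier.exists_equation₂ hI hJ x ⊤ trivial
  have hIJ : IsEqn (I * J) U (f * g) := ⟨mul_mem hf hg, by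
    rw [Scheme.IdealSheafData.ideal_mul, Pi.mul_apply, e, e', Ideal.span_singleton_mul_span_singleton]⟩
  refine ⟨_, ?_, range_idealModι hIJ hx⟩
  rw [map_mul]
  obtain ⟨eJ, heJ, hgJ⟩ := exists_gen (I := J) ⟨hg, e'⟩
  have hI' := range_idealModι (I := I) ⟨hf, e⟩ hx
  have hr := mem_range_mulθ_iff (ClSub.idealModι J) (ClSub.idealMod I) heJ x hx
  intro t
  constructor
  · rintro ⟨z, rfl⟩
    obtain ⟨s, hs⟩ := (hr _).1 (LinearMap.mem_range_self _ z)
    obtain ⟨s', hs'⟩ := (hI' _).1 ⟨s, rfl⟩
    refine ⟨s', ?_⟩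
    refine Eq.trans ?_ (stalkLin_comp' _ _ x _).symm
    refine Eq.trans ?_ (congrArg (stalkLin (ClSub.idealModι I) x) hs)
    rw [map_smul, ← hs', hgJ, mul_comm, mul_smul]
  · rintro ⟨s, rfl⟩
    obtain ⟨z, hz⟩ := (hI' _).2 ⟨s, rfl⟩
    obtain ⟨w, hw⟩ := LinearMap.mem_range.1 ((hr _).2 ⟨z, rfl⟩)
    refine ⟨w, ?_⟩
    refine ((stalkLin_comp' _ _ x w).trans (congrArg (stalkLin (ClSub.idealModι I) x) hw)).trans ?_
    rw [map_smul, hz, hgJ, mul_comm, mul_smul]

/-- The module of a product of Cartier ideals is the tensor product. -/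
theorem nonempty_idealMod_mul {I J : X.IdealSheafData} (hI : BlowUp.IsEffCartierIdeal I)
    (hJ : BlowUp.IsEffCartierIdeal J) :
    Nonempty (CohB1.tensorMod (ClSub.idealMod I) (ClSub.idealMod J) ≅ ClSub.idealMod (I * J)) := by
  haveI := CartFilt.mono_α hJ _ (IdealSh.IdealMod.isInvertible_of_isEffCartierIdeal I hI)
  haveI : Mono (ClSub.idealModι I) := inferInstanceAs (Mono (kernel.ι _))
  haveI : Mono (CartFilt.α J (ClSub.idealMod I) ≫ ClSub.idealModι I) := mono_comp _ _
  exact ⟨(CartFilt.exists_iso_idealMod (I * J) _ (rangeEq_mul hI hJ)).choose⟩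


end M

theorem eq_ptIdeal {X : Scheme.{u}} (C : X.IdealSheafData) [IsIntegral C.subscheme] :
    C = IntMult.ptIdeal (C.subschemeι (genericPoint ↥C.subscheme)) ∧
      closure ({C.subschemeι (genericPoint ↥C.subscheme)} : Set X) = (C.support : Set X) := by
  have hcl : closure ({C.subschemeι (genericPoint ↥C.subscheme)} : Set X) = (C.support : Set X) := by
    rw [← Set.image_singleton, C.subschemeι.isClosedEmbedding.closure_image_eq,
      (genericPoint_spec ↥C.subscheme).def, Set.image_univ, C.range_subschemeι]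
  refine ⟨?_, hcl⟩
  conv_lhs => rw [← C.ker_subschemeι]
  exact RedSub.ker_eq_vanishingIdeal C.subschemeι
    ⟨closure {C.subschemeι (genericPoint ↥C.subscheme)}, isClosed_closure⟩
    (C.range_subschemeι.trans hcl.symm)

theorem mul_le_right' {X : Scheme.{u}} (P Q : X.IdealSheafData) : P * Q ≤ Q := fun U => by
  rw [Scheme.IdealSheafData.ideal_mul, Pi.mul_apply]
  exact Ideal.mul_le.2 fun a _ b hb => Ideal.mul_mem_left _ _ hb


theorem ptIdeal_eq {X : Scheme.{u}} {ξ : X} (C : X.IdealSheafData) [IsIntegral C.subscheme]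
    (hξ : ξ ∈ (C.support : Set X))
    (hC : topologicalKrullDim ↥(C.support : Set X) = ((1 : ℕ) : WithBot ℕ∞))
    (h1 : topologicalKrullDim ↥((IntMult.ptIdeal ξ).support : Set X) = ((1 : ℕ) : WithBot ℕ∞)) :
    IntMult.ptIdeal ξ = C := by
  obtain ⟨eC, hclC⟩ := eq_ptIdeal C
  rw [CohDev.coe_support_ptIdeal] at h1
  have hle : closure ({ξ} : Set X) ⊆ (C.support : Set X) :=
    closure_minimal (Set.singleton_subset_iff.2 hξ) C.support.isClosed
  have heq : closure ({ξ} : Set X) = (C.support : Set X) := by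
    by_contra hns
    have hirr : IsIrreducible (C.support : Set X) := hclC ▸ isIrreducible_singleton.closure
    have h := CohDev.dim_lt_of_irreducible isClosed_closure hirr hle
      (fun h => hns (hle.antisymm h)) hC.le
    rw [h1] at h
    exact lt_irrefl _ h
  rw [eC]
  unfold IntMult.ptIdeal
  congr 1
  exact TopologicalSpace.Closeds.ext (heq.trans hclC.symm)


variable (k : Type u) [Field k] {X : Scheme.{u}} [X.Over (Spec (CommRingCat.of k))]
  [IsProper (X ↘ Spec (CommRingCat.of k))]

include k in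
/-- The short exact sequence of `O/IJ`. -/
theorem exists_mulShort {I J : X.IdealSheafData} (hI : BlowUp.IsEffCartierIdeal I)
    (hJ : BlowUp.IsEffCartierIdeal J) : ∃ S : ShortComplex X.Modules, S.ShortExact ∧
      Nonempty (S.X₁ ≅ CohB1.tensorMod (ClSub.idealMod I) (ClSub.quotMod J)) ∧
      Nonempty (S.X₂ ≅ ClSub.quotMod (I * J)) ∧ Nonempty (S.X₃ ≅ ClSub.quotMod I) := by
  haveI := EulerChar.isNoetherian k (X := X)
  have hi := IdealSh.IdealMod.isInvertible_of_isEffCartierIdeal I hI
  haveI : (ClSub.idealMod I).IsQuasicoherent := ProjTwist.isQCoh_of_isInvertible hi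
  let a := CartFilt.α J (ClSub.idealMod I)
  let b := ClSub.idealModι I
  haveI : Mono a := CartFilt.mono_α hJ _ hi
  haveI : Mono b := inferInstanceAs (Mono (kernel.ι _))
  haveI : Mono (a ≫ b) := mono_comp _ _
  let S := ShortComplex.mk (cokernel.map a (a ≫ b) (𝟙 _) b (Category.id_comp _).symm)
    (cokernel.map (a ≫ b) b a (𝟙 _) (Category.comp_id _))
    (Cofork.IsColimit.hom_ext (cokernelIsCokernel a) (by simp))
  refine ⟨S, ?_, ⟨CartFilt.cokerαIso J (ClSub.idealMod I)⟩,
    CartFilt.nonempty_cokernel_iso (I * J) (a ≫ b) (rangeEq_mul hI hJ),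
    ⟨(cokernelIsCokernel _).coconePointUniqueUpToIso (EulerChar.shortExact_ideal I).gIsCokernel⟩⟩
  have h := kernelCokernelCompSequence_exact a b
  refine { exact := ?_, mono_f := ?_, epi_g := ?_ }
  · exact h.exact 3
  · exact (h.exact 2).mono_g (IsZero.eq_of_src (isZero_kernel_of_mono b) _ _)
  · exact inferInstanceAs (Epi ((kernelCokernelCompSequence a b).map' 4 5))


include k in
/-- Vanishing on a closed subscheme above its dimension. -/
theorem subsingleton_tens_quot (J : X.IdealSheafData) {M : X.Modules} (hM : PicF.IsInvertible M) (d i : ℕ)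
    (hd : topologicalKrullDim ↥(J.support : Set X) ≤ ((d : ℕ) : WithBot ℕ∞)) (hi : d < i) :
    Subsingleton (Coh.HH X (CohB1.tensorMod M (ClSub.quotMod J)) i) := by
  letI : J.subscheme.Over (Spec (CommRingCat.of k)) := ⟨J.subschemeι ≫ (X ↘ Spec (CommRingCat.of k))⟩
  haveI : IsProper (J.subscheme ↘ Spec (CommRingCat.of k)) :=
    inferInstanceAs (IsProper (J.subschemeι ≫ (X ↘ Spec (CommRingCat.of k))))
  haveI := EulerChar.isNoetherian k (X := J.subscheme)
  have hdJ : topologicalKrullDim J.subscheme ≤ ((d : ℕ) : WithBot ℕ∞) := by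
    rw [IsHomeomorph.topologicalKrullDim_eq _ (J.subschemeι.isEmbedding.toHomeomorph.trans
      (Homeomorph.setCongr J.range_subschemeι)).isHomeomorph]
    exact hd
  let P := (Scheme.Modules.pullback J.subschemeι).obj M
  have hPq : Coh.IsQCoh P := ProjTwist.isQCoh_of_isInvertible (PicCl.isInvertible_pullback _ hM)
  let e : CohB1.tensorMod M (ClSub.quotMod J) ≅ (Scheme.Modules.pushforward J.subschemeι).obj P :=
    EulerChar.tensQuotIso J.subschemeι M
  obtain ⟨E⟩ := EulerChar.nonempty_pushEquiv (A := k) J.subschemeι rfl P hPq i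
  haveI := CohTop.Vanishing.grothendieck_vanishing (X := J.subscheme.toPresheafedSpace.carrier) d hdJ
    (Coh.toAb P) i hi
  haveI : Subsingleton (Coh.HH X ((Scheme.Modules.pushforward J.subschemeι).obj P) i) := E.toEquiv.subsingleton
  exact AmpCrit.subsingleton_HH_of_iso e.symm i


variable [IsIntegral X] (hdim : topologicalKrullDim X = ((2 : ℕ) : WithBot ℕ∞))
  (hreg : ∀ x : X, IsRegularLocalRing (X.presheaf.stalk x))

include k hdim hreg in
theorem isEffCartier_curve (C : X.IdealSheafData) [IsIntegral C.subscheme]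
    (hC : topologicalKrullDim ↥(C.support : Set X) = ((1 : ℕ) : WithBot ℕ∞)) :
    BlowUp.IsEffCartierIdeal C := by
  haveI := EulerChar.isNoetherian k (X := X)
  refine S1684.result X C ?_ fun x _ => ?_
  · have hcl : closure ({C.subschemeι (genericPoint ↥C.subscheme)} : Set X) = (C.support : Set X) := by
      rw [← Set.image_singleton, C.subschemeι.isClosedEmbedding.closure_image_eq,
        (genericPoint_spec ↥C.subscheme).def, Set.image_univ, C.range_subschemeι]
    have hd : VarDim.dimPt k X (C.subschemeι (genericPoint ↥C.subscheme)) = 1 := by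
      have h := FibBound.topDim_closure_singleton k (C.subschemeι (genericPoint ↥C.subscheme))
      rw [hcl, hC] at h
      exact_mod_cast h.symm
    have hη : VarDim.dimPt k X (genericPoint X) = 2 := by
      have h := (VarDim.topologicalKrullDim_eq_of_irreducible k (X := X)).symm.trans hdim
      exact_mod_cast h
    have hle : ∀ y : X, VarDim.dimPt k X y ≤ 2 := fun y => by
      have h := (VarDim.topologicalKrullDim_eq_iSup k (X := X)).symm.trans hdim
      have h1 : (VarDim.dimPt k X y : WithBot ℕ∞) ≤ ((2 : ℕ) : WithBot ℕ∞) :=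
        (le_iSup (fun z : X => (VarDim.dimPt k X z : WithBot ℕ∞)) y).trans h.le
      exact_mod_cast h1
    rw [ringKrullDim_stalk_eq_coheight]
    have h1 := VarDim.coheight_le_of_forall k (x := C.subschemeι (genericPoint ↥C.subscheme)) fun y _ => hle y
    have h2 := VarDim.le_coheight k (x := C.subschemeι (genericPoint ↥C.subscheme)) (y := genericPoint X)
      (genericPoint_specializes _)
    rw [hd] at h1 h2
    rw [hη] at h2
    rw [le_antisymm h1 h2]
    simp
  · haveI := hreg x
    exact ⟨inferInstance, RegLoc.UFD.uniqueFactorizationMonoid _⟩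


omit [IsIntegral X] in
/-- The degree of a module on a subscheme with invertible ideal. -/
theorem deg1_quotMod {C : X.IdealSheafData} (hI : PicF.IsInvertible (ClSub.idealMod C))
    {L : X.Modules} (hL : PicF.IsInvertible L) :
    NumTriv.deg1 k (ClSub.quotMod C) L = -pr k L (ClSub.idealMod C) := by
  haveI := EulerChar.isNoetherian k (X := X)
  have hOc := VBLib.isCoh_of_ofRank (isFinLocFreeOfRank_one (PicLoc.isInvertible_structureModule X))
  have hIc := VBLib.isCoh_of_ofRank (isFinLocFreeOfRank_one hI)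
  have hQc := EulerChar.isCoh_quotMod k C
  have hS := EulerChar.shortExact_ideal C
  have h1 : Curv2.euler k X (Coh.structureModule X) =
      Curv2.euler k X (ClSub.idealMod C) + Curv2.euler k X (ClSub.quotMod C) :=
    EulerChar.euler_add' k (ClSub.idealModι C) (ClSub.toSubscheme C) (kernel.condition _) hS hIc hOc hQc
  have h2 : Curv2.euler k X (CohB1.tensorMod L (Coh.structureModule X)) =
      Curv2.euler k X (CohB1.tensorMod L (ClSub.idealMod C)) +
        Curv2.euler k X (CohB1.tensorMod L (ClSub.quotMod C)) :=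
    euler_tens_add k (S := ShortComplex.mk (ClSub.idealModι C) (ClSub.toSubscheme C) (kernel.condition _))
      hL hS hIc hOc hQc
  rw [EulerChar.euler_iso k (tensOne L)] at h2
  rw [NumTriv.deg1, pr, EulerChar.euler_iso k (tensComm (ClSub.quotMod C) L)]
  linarith


include hdim in
theorem pr_mul {I J : X.IdealSheafData} (hI : BlowUp.IsEffCartierIdeal I)
    (hJ : BlowUp.IsEffCartierIdeal J) {B : X.Modules} (hB : PicF.IsInvertible B) :
    pr k B (ClSub.idealMod (I * J)) = pr k B (ClSub.idealMod I) + pr k B (ClSub.idealMod J) := by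
  haveI := EulerChar.isNoetherian k (X := X)
  obtain ⟨e⟩ := nonempty_idealMod_mul hI hJ
  rw [← pr_congr k (Iso.refl B) e, pr_comm, pr_add_left k hdim.le
    (IdealSh.IdealMod.isInvertible_of_isEffCartierIdeal I hI)
    (IdealSh.IdealMod.isInvertible_of_isEffCartierIdeal J hJ) hB, pr_comm k _ B, pr_comm k _ B]


include hdim in
theorem euler_mul {W C : X.IdealSheafData} (hW : BlowUp.IsEffCartierIdeal W)
    (hC : BlowUp.IsEffCartierIdeal C) :
    Curv2.euler k X (ClSub.quotMod (W * C)) = Curv2.euler k X (ClSub.quotMod W) +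
      Curv2.euler k X (ClSub.quotMod C) - pr k (ClSub.idealMod W) (ClSub.idealMod C) := by
  haveI := EulerChar.isNoetherian k (X := X)
  have hWi := IdealSh.IdealMod.isInvertible_of_isEffCartierIdeal W hW
  have hCi := IdealSh.IdealMod.isInvertible_of_isEffCartierIdeal C hC
  obtain ⟨S, hS, ⟨e₁⟩, ⟨e₂⟩, ⟨e₃⟩⟩ := exists_mulShort k hW hC
  have h := EulerChar.euler_add' k S.f S.g S.zero hS
    (CohDev.isCoh_of_iso e₁.symm (Snapper.isCoh_tensorMod k hWi (EulerChar.isCoh_quotMod k C)))
    (CohDev.isCoh_of_iso e₂.symm (EulerChar.isCoh_quotMod k _))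
    (CohDev.isCoh_of_iso e₃.symm (EulerChar.isCoh_quotMod k W))
  have h2 := deg1_quotMod k hCi hWi
  rw [NumTriv.deg1, EulerChar.euler_iso k (tensComm (ClSub.quotMod C) (ClSub.idealMod W))] at h2
  rw [EulerChar.euler_iso k e₁, EulerChar.euler_iso k e₂, EulerChar.euler_iso k e₃] at h
  linarith

include hdim in
theorem dim_le_one {T : Set X} (hT : IsClosed T) (hne : T ≠ Set.univ) :
    topologicalKrullDim ↥T ≤ ((1 : ℕ) : WithBot ℕ∞) := by
  refine Snapper.le_of_lt_succ ?_
  refine CohDev.dim_lt_of_irreducible hT (IrreducibleSpace.isIrreducible_univ X) (Set.subset_univ _)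
    (fun h => hne (Set.univ_subset_iff.1 h)) ?_
  rw [IsHomeomorph.topologicalKrullDim_eq _ (Homeomorph.Set.univ X).isHomeomorph, hdim]


omit [IsIntegral X] in
include k in
/-- `H¹` passes to subdivisors. -/
theorem subsingleton_sub {Z J : X.IdealSheafData} (hZ : BlowUp.IsEffCartierIdeal Z)
    (hJ : BlowUp.IsEffCartierIdeal J)
    (hd : topologicalKrullDim ↥(J.support : Set X) ≤ ((1 : ℕ) : WithBot ℕ∞))
    (h : Subsingleton (Coh.HH X (ClSub.quotMod (Z * J)) 1)) :
    Subsingleton (Coh.HH X (ClSub.quotMod Z) 1) := by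
  haveI := EulerChar.isNoetherian k (X := X)
  obtain ⟨S, hS, ⟨e₁⟩, ⟨e₂⟩, ⟨e₃⟩⟩ := exists_mulShort k hZ hJ
  haveI := subsingleton_tens_quot k J (IdealSh.IdealMod.isInvertible_of_isEffCartierIdeal Z hZ) 1 2 hd
    (by norm_num)
  haveI : Subsingleton (Coh.HH X S.X₁ 2) := AmpCrit.subsingleton_HH_of_iso e₁.symm 2
  haveI := h
  haveI : Subsingleton (Coh.HH X S.X₂ 1) := AmpCrit.subsingleton_HH_of_iso e₂.symm 1
  haveI : Subsingleton (Coh.HH X S.X₃ 1) := subsingleton_of_forall_eq 0 fun z => by
    obtain ⟨y, hy⟩ := ((CurveCoh.exact_mapL_deltaL k hS 1 2 rfl) z).mp (Subsingleton.elim _ _)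
    rw [← hy, Subsingleton.elim y 0, map_zero]
  exact AmpCrit.subsingleton_HH_of_iso e₃ 1


end Groth.Agent.SurfUnion21
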